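import Groth.Prelude.Def_W4c5normfunctorschNorm
import Mathlib.RingTheory.IsTensorProduct

/-!
Polynomial laws under base change of the base ring: `bcAlong`, restriction of scalars of laws,
extensionality on ring test algebras.
-/

set_option autoImplicit false
set_option maxHeartbeats 400000

universe u

open scoped TensorProduct
open PolLaw

namespace Groth.Agent.H98PolLaw

variable {R : Type u} [CommRing R] {Q : Type u} [CommRing Q] [Algebra R Q]

section bc

variable {X : Type u} [AddCommGroup X] [Module R X]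
  {Y : Type u} [AddCommGroup Y] [Module R Y] [Module Q Y] [IsScalarTower R Q Y]
  {P : Type u} [CommRing P] [Algebra R P] [Algebra Q P] [IsScalarTower R Q P]

theorem bcAlong_tmul (g : X →ₗ[R] Y) (p : P) (x : X) :
    bcAlong (Q := Q) g P (p ⊗ₜ[R] x) = p ⊗ₜ[Q] g x := by
  simp [bcAlong, LinearMap.liftBaseChange_tmul]

theorem bcAlong_eq_id (g : X →ₗ[R] Y) (x : P ⊗[R] X) :
    bcAlong (Q := Q) g P x = bcAlong (Q := Q) (LinearMap.id : Y →ₗ[R] Y) P (g.lTensor P x) := by
  induction x using TensorProduct.induction_on with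
  | zero => simp
  | tmul p x => simp [bcAlong_tmul]
  | add a b ha hb => simp [ha, hb]

theorem bcAlong_smul (g : X →ₗ[R] Y) (p : P) (x : P ⊗[R] X) :
    bcAlong (Q := Q) g P (p • x) = p • bcAlong (Q := Q) g P x := by
  induction x using TensorProduct.induction_on with
  | zero => simp
  | tmul p x => simp [bcAlong_tmul, TensorProduct.smul_tmul']
  | add a b ha hb => simp [ha, hb]

theorem bcAlong_bijective {g : X →ₗ[R] Y} (hg : IsBaseChange Q g) :
    Function.Bijective (bcAlong (Q := Q) g P) := by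
  have h : g.liftBaseChange Q = hg.equiv.toLinearMap := by
    ext x
    simp [IsBaseChange.equiv_tmul]
  have h2 : Function.Bijective ((g.liftBaseChange Q).lTensor P) := by
    rw [h]
    exact (LinearEquiv.lTensor P hg.equiv).bijective
  rw [bcAlong, LinearMap.coe_comp]
  exact h2.comp (TensorProduct.AlgebraTensorModule.cancelBaseChange R Q P P X).symm.bijective

theorem rTensor_bcAlong {P' : Type u} [CommRing P'] [Algebra R P'] [Algebra Q P'] [IsScalarTower R Q P']
    (φ : P →ₐ[Q] P') (g : X →ₗ[R] Y) (x : P ⊗[R] X) :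
    φ.toLinearMap.rTensor Y (bcAlong (Q := Q) g P x) =
      bcAlong (Q := Q) g P' ((φ.restrictScalars R).toLinearMap.rTensor X x) := by
  induction x using TensorProduct.induction_on with
  | zero => simp
  | tmul p x => simp [bcAlong_tmul]
  | add a b ha hb => simp [ha, hb]

theorem lTensor_bcAlong {Z : Type u} [AddCommGroup Z] [Module R Z] [Module Q Z] [IsScalarTower R Q Z]
    (h : Y →ₗ[Q] Z) (g : X →ₗ[R] Y) (x : P ⊗[R] X) :
    h.lTensor P (bcAlong (Q := Q) g P x) = bcAlong ((h.restrictScalars R) ∘ₗ g) P x := by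
  induction x using TensorProduct.induction_on with
  | zero => simp
  | tmul p x => simp [bcAlong_tmul]
  | add a b ha hb => simp [ha, hb]

theorem bcAlong_lTensor {W : Type u} [AddCommGroup W] [Module R W]
    (g : X →ₗ[R] Y) (h : W →ₗ[R] X) (x : P ⊗[R] W) :
    bcAlong (Q := Q) g P (h.lTensor P x) = bcAlong (g ∘ₗ h) P x := by
  induction x using TensorProduct.induction_on with
  | zero => simp
  | tmul p x => simp [bcAlong_tmul]
  | add a b ha hb => simp [ha, hb]

end bc

section res

variable (Q)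
variable (S : Type u) [CommSemiring S] [Algebra R S]
  (Y : Type u) [AddCommGroup Y] [Module R Y] [Module Q Y] [IsScalarTower R Q Y]

/-- `(Q ⊗[R] S) ⊗[Q] Y ≃ S ⊗[R] Y`. -/
noncomputable def resEquiv : (Q ⊗[R] S) ⊗[Q] Y ≃ₗ[R] S ⊗[R] Y :=
  ((TensorProduct.comm Q (Q ⊗[R] S) Y).restrictScalars R) ≪≫ₗ
    ((TensorProduct.AlgebraTensorModule.cancelBaseChange R Q Q Y S).restrictScalars R) ≪≫ₗ
      TensorProduct.comm R Y S

variable {Q S Y}

theorem resEquiv_tmul (q : Q) (s : S) (y : Y) :
    resEquiv Q S Y ((q ⊗ₜ[R] s) ⊗ₜ[Q] y) = s ⊗ₜ[R] (q • y) := by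
  simp [resEquiv]

theorem resEquiv_symm_tmul (s : S) (y : Y) :
    (resEquiv Q S Y).symm (s ⊗ₜ[R] y) = ((1 : Q) ⊗ₜ[R] s) ⊗ₜ[Q] y := by
  rw [LinearEquiv.symm_apply_eq, resEquiv_tmul, one_smul]

/-- Naturality of `resEquiv` in the test algebra. -/
theorem resEquiv_rTensor {S' : Type u} [CommSemiring S'] [Algebra R S'] (φ : S →ₐ[R] S')
    (z : (Q ⊗[R] S) ⊗[Q] Y) :
    φ.toLinearMap.rTensor Y (resEquiv Q S Y z) =
      resEquiv Q S' Y ((Algebra.TensorProduct.map (AlgHom.id Q Q) φ).toLinearMap.rTensor Y z) := by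
  induction z using TensorProduct.induction_on with
  | zero => simp
  | tmul w y =>
    induction w using TensorProduct.induction_on with
    | zero => simp
    | tmul q s => simp [resEquiv_tmul]
    | add a b ha hb => simp only [TensorProduct.add_tmul, map_add, ha, hb]
  | add a b ha hb => simp only [map_add, ha, hb]

theorem resEquiv_symm_rTensor {S' : Type u} [CommSemiring S'] [Algebra R S'] (φ : S →ₐ[R] S')
    (z : S ⊗[R] Y) :
    (resEquiv Q S' Y).symm (φ.toLinearMap.rTensor Y z) =
      (Algebra.TensorProduct.map (AlgHom.id Q Q) φ).toLinearMap.rTensor Y ((resEquiv Q S Y).symm z) := by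
  rw [LinearEquiv.symm_apply_eq, ← resEquiv_rTensor, LinearEquiv.apply_symm_apply]

/-- Naturality of `resEquiv` in the module. -/
theorem resEquiv_lTensor {Z : Type u} [AddCommGroup Z] [Module R Z] [Module Q Z] [IsScalarTower R Q Z]
    (h : Y →ₗ[Q] Z) (z : (Q ⊗[R] S) ⊗[Q] Y) :
    (h.restrictScalars R).lTensor S (resEquiv Q S Y z) = resEquiv Q S Z (h.lTensor (Q ⊗[R] S) z) := by
  induction z using TensorProduct.induction_on with
  | zero => simp
  | tmul w y =>
    induction w using TensorProduct.induction_on with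
    | zero => simp
    | tmul q s => simp [resEquiv_tmul]
    | add a b ha hb => simp only [TensorProduct.add_tmul, map_add, ha, hb]
  | add a b ha hb => simp only [map_add, ha, hb]

theorem resEquiv_symm_lTensor {X : Type u} [AddCommGroup X] [Module R X] {S : Type u} [CommRing S]
    [Algebra R S] (g : X →ₗ[R] Y) (z : S ⊗[R] X) :
    (resEquiv Q S Y).symm (g.lTensor S z) =
      bcAlong g (Q ⊗[R] S)
        ((Algebra.TensorProduct.includeRight : S →ₐ[R] Q ⊗[R] S).toLinearMap.rTensor X z) := by
  induction z using TensorProduct.induction_on with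
  | zero => simp
  | tmul s x => simp [resEquiv_symm_tmul, bcAlong_tmul]
  | add a b ha hb => simp [ha, hb]

theorem bcAlong_id_resEquiv {P : Type u} [CommRing P] [Algebra R P] [Algebra Q P] [IsScalarTower R Q P]
    (x : P ⊗[R] Y) :
    bcAlong (Q := Q) (LinearMap.id : Y →ₗ[R] Y) P x =
      (Algebra.TensorProduct.lift (Algebra.ofId Q P) (AlgHom.id R P) fun _ _ => Commute.all _ _).toLinearMap.rTensor
        Y ((resEquiv Q P Y).symm x) := by
  induction x using TensorProduct.induction_on with
  | zero => simp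
  | tmul s y => simp [resEquiv_symm_tmul, bcAlong_tmul]
  | add a b ha hb => simp [ha, hb]

end res

section law

variable {Y : Type u} [AddCommGroup Y] [Module R Y] [Module Q Y] [IsScalarTower R Q Y]
  {Z : Type u} [AddCommGroup Z] [Module R Z] [Module Q Z] [IsScalarTower R Q Z]

/-- Restriction of scalars of a polynomial law along `R → Q`. -/
noncomputable def resLaw (F : Y →ₚₗ[Q] Z) : Y →ₚₗ[R] Z where
  toFun' S _ _ := fun y => resEquiv Q S Z (F.toFun' (Q ⊗[R] S) ((resEquiv Q S Y).symm y))
  isCompat' {S} _ _ {S'} _ _ φ := by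
    funext y
    simp only [Function.comp_apply]
    rw [resEquiv_rTensor, resEquiv_symm_rTensor]
    exact congrArg _ (congrFun (F.isCompat' (Algebra.TensorProduct.map (AlgHom.id Q Q) φ)) _)

theorem resLaw_apply (F : Y →ₚₗ[Q] Z) (S : Type u) [CommSemiring S] [Algebra R S] (y : S ⊗[R] Y) :
    (resLaw F).toFun' S y = resEquiv Q S Z (F.toFun' (Q ⊗[R] S) ((resEquiv Q S Y).symm y)) := rfl

theorem bcAlong_resLaw (F : Y →ₚₗ[Q] Z) {P : Type u} [CommRing P] [Algebra R P] [Algebra Q P]
    [IsScalarTower R Q P] (y : P ⊗[R] Y) :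
    bcAlong (Q := Q) (LinearMap.id : Z →ₗ[R] Z) P ((resLaw F).toFun' P y) =
      F.toFun' P (bcAlong (Q := Q) (LinearMap.id : Y →ₗ[R] Y) P y) := by
  rw [bcAlong_id_resEquiv, bcAlong_id_resEquiv, resLaw_apply, LinearEquiv.symm_apply_apply]
  exact congrFun (F.isCompat' _) _

end law

/-- A polynomial law is determined by its values on test algebras that are rings. -/
theorem ext_ring {M N : Type u} [AddCommGroup M] [Module R M] [AddCommGroup N] [Module R N]
    {F G : M →ₚₗ[R] N}
    (h : ∀ (P : Type u) [CommRing P] [Algebra R P] (x : P ⊗[R] M), F.toFun' P x = G.toFun' P x) :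
    F = G := by
  refine PolynomialLaw.ext ?_
  funext S i1 i2 x
  let e := Algebra.TensorProduct.lid R S
  have hx : e.toAlgHom.toLinearMap.rTensor M (e.symm.toAlgHom.toLinearMap.rTensor M x) = x := by
    rw [← LinearMap.comp_apply, ← LinearMap.rTensor_comp]
    have : e.toAlgHom.toLinearMap ∘ₗ e.symm.toAlgHom.toLinearMap = LinearMap.id :=
      LinearMap.ext fun s => e.apply_symm_apply s
    rw [this, LinearMap.rTensor_id, LinearMap.id_apply]
  rw [← hx, ← PolynomialLaw.isCompat_apply', h, PolynomialLaw.isCompat_apply']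

section bcLaw

variable {M N : Type u} [AddCommGroup M] [Module R M] [AddCommGroup N] [Module R N]

variable (Q) in
/-- `S ⊗[Q] (Q ⊗[R] M) ≃ S ⊗[R] M`. -/
noncomputable def cbcM (M : Type u) [AddCommGroup M] [Module R M] (S : Type u) [CommSemiring S]
    [Algebra R S] [Algebra Q S] [IsScalarTower R Q S] : S ⊗[Q] (Q ⊗[R] M) ≃ₗ[S] S ⊗[R] M :=
  TensorProduct.AlgebraTensorModule.cancelBaseChange R Q S S M

theorem cbcM_rTensor {S S' : Type u} [CommSemiring S] [Algebra R S] [Algebra Q S] [IsScalarTower R Q S]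
    [CommSemiring S'] [Algebra R S'] [Algebra Q S'] [IsScalarTower R Q S'] (φ : S →ₐ[Q] S')
    (x : S ⊗[Q] (Q ⊗[R] M)) :
    cbcM Q M S' (φ.toLinearMap.rTensor _ x) =
      (φ.restrictScalars R).toLinearMap.rTensor M (cbcM Q M S x) := by
  induction x using TensorProduct.induction_on with
  | zero => simp
  | tmul s z =>
    induction z using TensorProduct.induction_on with
    | zero => simp
    | tmul k b => simp [cbcM, map_smul]
    | add a b ha hb => simp only [TensorProduct.tmul_add, map_add, ha, hb]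
  | add a b ha hb => simp only [map_add, ha, hb]

theorem cbcM_symm_rTensor {S S' : Type u} [CommSemiring S] [Algebra R S] [Algebra Q S] [IsScalarTower R Q S]
    [CommSemiring S'] [Algebra R S'] [Algebra Q S'] [IsScalarTower R Q S'] (φ : S →ₐ[Q] S')
    (x : S ⊗[R] M) :
    φ.toLinearMap.rTensor _ ((cbcM Q M S).symm x) =
      (cbcM Q M S').symm ((φ.restrictScalars R).toLinearMap.rTensor M x) := by
  rw [LinearEquiv.eq_symm_apply, cbcM_rTensor, LinearEquiv.apply_symm_apply]

/-- The value of the base-changed law. -/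
noncomputable def bcFun (F : M →ₚₗ[R] N) (S : Type u) [CommSemiring S] [Algebra Q S]
    (x : S ⊗[Q] (Q ⊗[R] M)) : S ⊗[Q] (Q ⊗[R] N) :=
  letI : Algebra R S := Algebra.compHom S (algebraMap R Q)
  haveI : IsScalarTower R Q S := IsScalarTower.of_algebraMap_eq fun _ => rfl
  (cbcM Q N S).symm (F.toFun' S (cbcM Q M S x))

variable (Q) in
/-- The base change of a polynomial law. -/
noncomputable def bcPol (F : M →ₚₗ[R] N) : (Q ⊗[R] M) →ₚₗ[Q] (Q ⊗[R] N) where
  toFun' S _ _ := bcFun F S
  isCompat' {S} _ _ {S'} _ _ φ := by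
    letI : Algebra R S := Algebra.compHom S (algebraMap R Q)
    haveI : IsScalarTower R Q S := IsScalarTower.of_algebraMap_eq fun _ => rfl
    letI : Algebra R S' := Algebra.compHom S' (algebraMap R Q)
    haveI : IsScalarTower R Q S' := IsScalarTower.of_algebraMap_eq fun _ => rfl
    funext x
    change φ.toLinearMap.rTensor _ ((cbcM Q N S).symm (F.toFun' S (cbcM Q M S x))) =
      (cbcM Q N S').symm (F.toFun' S' (cbcM Q M S' (φ.toLinearMap.rTensor _ x)))
    rw [cbcM_symm_rTensor, cbcM_rTensor]
    exact congrArg _ (congrFun (F.isCompat' (φ.restrictScalars R)) _)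

theorem bcPol_apply (F : M →ₚₗ[R] N) (S : Type u) [CommSemiring S] [Algebra R S] [Algebra Q S]
    [IsScalarTower R Q S] (x : S ⊗[Q] (Q ⊗[R] M)) :
    (bcPol Q F).toFun' S x = (cbcM Q N S).symm (F.toFun' S (cbcM Q M S x)) := by
  have h : ‹Algebra R S› = Algebra.compHom S (algebraMap R Q) :=
    Algebra.algebra_ext _ _ fun r => IsScalarTower.algebraMap_apply R Q S r
  subst h
  rfl

theorem bcAlong_mk_eq {P : Type u} [CommRing P] [Algebra R P] [Algebra Q P] [IsScalarTower R Q P]
    (x : P ⊗[R] M) :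
    bcAlong (TensorProduct.mk R Q M 1) P x = (cbcM Q M P).symm x := by
  induction x using TensorProduct.induction_on with
  | zero => simp
  | tmul p m => simp [bcAlong_tmul, cbcM]
  | add a b ha hb => simp [ha, hb]

theorem bcPol_bcAlong (F : M →ₚₗ[R] N) {P : Type u} [CommRing P] [Algebra R P] [Algebra Q P]
    [IsScalarTower R Q P] (x : P ⊗[R] M) :
    (bcPol Q F).toFun' P (bcAlong (TensorProduct.mk R Q M 1) P x) =
      bcAlong (TensorProduct.mk R Q N 1) P (F.toFun' P x) := by
  rw [bcPol_apply, bcAlong_mk_eq, bcAlong_mk_eq, LinearEquiv.apply_symm_apply]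

end bcLaw

end Groth.Agent.H98PolLaw
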