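import Groth.Agent.H98PolLaw.Bc
import Mathlib.RingTheory.Norm.Basic

/-!
Norms and normic laws under base change.
-/

set_option autoImplicit false
set_option maxHeartbeats 400000

universe u

open scoped TensorProduct
open PolLaw

namespace Groth.Agent.H98PolLaw

variable {R R' Q Q' : Type u} [CommRing R] [CommRing R'] [Algebra R R']
    [CommRing Q] [Algebra R Q] [CommRing Q'] [Algebra R Q'] [Algebra Q Q'] [Algebra R' Q']
    [IsScalarTower R Q Q'] [IsScalarTower R R' Q'] [Algebra.IsPushout R R' Q Q']
  {P : Type u} [CommRing P] [Algebra R P] [Algebra Q P] [IsScalarTower R Q P]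

/-- The map `R' → Q'`. -/
abbrev iota (R R' Q' : Type u) [CommRing R] [CommRing R'] [Algebra R R'] [CommRing Q'] [Algebra R Q']
    [Algebra R' Q'] [IsScalarTower R R' Q'] : R' →ₗ[R] Q' :=
  (IsScalarTower.toAlgHom R R' Q').toLinearMap

theorem isBaseChange_iota : IsBaseChange Q (iota R R' Q') :=
  (Algebra.IsPushout.symm (inferInstance : Algebra.IsPushout R R' Q Q')).out

/-- `P ⊗[R] R' ≃ P ⊗[Q] Q'`. -/
noncomputable def pushEquiv (R R' Q Q' P : Type u) [CommRing R] [CommRing R'] [Algebra R R']
    [CommRing Q] [Algebra R Q] [CommRing Q'] [Algebra R Q'] [Algebra Q Q'] [Algebra R' Q']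
    [IsScalarTower R Q Q'] [IsScalarTower R R' Q'] [Algebra.IsPushout R R' Q Q']
    [CommRing P] [Algebra R P] [Algebra Q P] [IsScalarTower R Q P] :
    P ⊗[R] R' ≃ₐ[P] P ⊗[Q] Q' :=
  AlgEquiv.ofBijective
    (Algebra.TensorProduct.lift (Algebra.ofId P _)
      (((Algebra.TensorProduct.includeRight : Q' →ₐ[Q] P ⊗[Q] Q').restrictScalars R).comp
        (IsScalarTower.toAlgHom R R' Q'))
      fun _ _ => Commute.all _ _)
    (by
      convert bcAlong_bijective (P := P) (isBaseChange_iota (R := R) (R' := R') (Q := Q) (Q' := Q'))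
        using 1
      funext x
      induction x using TensorProduct.induction_on with
      | zero => simp
      | tmul p r => simp [bcAlong_tmul, Algebra.TensorProduct.tmul_mul_tmul]
      | add a b ha hb => simp only [map_add, ha, hb])

theorem pushEquiv_apply (x : P ⊗[R] R') :
    pushEquiv R R' Q Q' P x = bcAlong (Q := Q) (iota R R' Q') P x := by
  induction x using TensorProduct.induction_on with
  | zero => simp
  | tmul p r => simp [pushEquiv, bcAlong_tmul, Algebra.TensorProduct.tmul_mul_tmul]
  | add a b ha hb => simp only [map_add, ha, hb]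

theorem norm_bcAlong (x : P ⊗[R] R') :
    Algebra.norm P (bcAlong (Q := Q) (iota R R' Q') P x) = Algebra.norm P x := by
  rw [← pushEquiv_apply]
  exact Algebra.norm_eq_of_algEquiv _ _

variable {M' : Type u} [AddCommGroup M'] [Module R M'] [Module R' M'] [IsScalarTower R R' M']
    {M'' : Type u} [AddCommGroup M''] [Module R M''] [Module R' M''] [Module Q M''] [Module Q' M'']
    [IsScalarTower R R' M''] [IsScalarTower R Q M''] [IsScalarTower R' Q' M''] [IsScalarTower Q Q' M'']

theorem bcAlong_actEnd (f : M' →ₗ[R'] M'') (x : P ⊗[R] R') (m : P ⊗[R] M') :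
    bcAlong (Q := Q) (f.restrictScalars R) P (actEnd M' P x m) =
      actEnd M'' P (bcAlong (Q := Q) (iota R R' Q') P x) (bcAlong (Q := Q) (f.restrictScalars R) P m) := by
  induction x using TensorProduct.induction_on with
  | zero => simp
  | tmul p r =>
    induction m using TensorProduct.induction_on with
    | zero => simp
    | tmul t z => simp [bcAlong_tmul]
    | add a b ha hb => simp only [map_add, ha, hb]
  | add a b ha hb => simp only [map_add, LinearMap.add_apply, ha, hb]

/-- The base change of `f` along `R → Q`. -/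
theorem isBaseChange_restrictScalars {f : M' →ₗ[R'] M''} (hf : IsBaseChange Q' f) :
    IsBaseChange Q (f.restrictScalars R) := by
  haveI : Algebra.IsPushout R Q R' Q' := Algebra.IsPushout.symm inferInstance
  refine IsBaseChange.of_equiv
    ((Algebra.IsPushout.cancelBaseChange R Q R' Q' M').symm ≪≫ₗ hf.equiv.restrictScalars Q) fun x => ?_
  simp [Algebra.IsPushout.cancelBaseChange_symm_tmul, IsBaseChange.equiv_tmul]

theorem norm_includeRight [Module.Free R R'] [Module.Finite R R'] {P' : Type u} [CommRing P'] [Algebra R P']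
    (φ : P →ₐ[R] P') (x : P ⊗[R] R') :
    Algebra.norm P' (φ.toLinearMap.rTensor R' x) = φ (Algebra.norm P x) := by
  rw [← detAct_self, ← detAct_self, rTensor_algHom_apply, detAct_map]

end Groth.Agent.H98PolLaw
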