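import Groth.Agent.H98PolLaw.Norm

/-!
Base change of universal normic pairs and of the norm map of divided powers.
-/

set_option autoImplicit false
set_option maxHeartbeats 400000

universe u

open scoped TensorProduct
open PolLaw

namespace Groth.Agent.H98PolLaw

theorem law_congr {R : Type u} [CommRing R] {M N : Type u} [AddCommGroup M] [Module R M] [AddCommGroup N]
    [Module R N] {F G : M →ₚₗ[R] N} (h : F = G) (S : Type u) [CommSemiring S] [Algebra R S] (x : S ⊗[R] M) :
    F.toFun' S x = G.toFun' S x := by rw [h]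

theorem lTensor_smul_left {R : Type u} [CommRing R] {M N : Type u} [AddCommGroup M] [Module R M]
    [AddCommGroup N] [Module R N] (g : M →ₗ[R] N) {S : Type u} [CommRing S] [Algebra R S] (s : S)
    (x : S ⊗[R] M) : g.lTensor S (s • x) = s • g.lTensor S x := by
  induction x using TensorProduct.induction_on with
  | zero => simp
  | tmul a b => simp [TensorProduct.smul_tmul']
  | add a b ha hb => simp only [smul_add, map_add, ha, hb]

theorem resEquiv_includeRight_smul {R : Type u} [CommRing R] {Q : Type u} [CommRing Q] [Algebra R Q]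
    {S : Type u} [CommRing S] [Algebra R S] {Y : Type u} [AddCommGroup Y] [Module R Y] [Module Q Y]
    [IsScalarTower R Q Y] (c : S) (w : (Q ⊗[R] S) ⊗[Q] Y) :
    resEquiv Q S Y ((Algebra.TensorProduct.includeRight c : Q ⊗[R] S) • w) = c • resEquiv Q S Y w := by
  induction w using TensorProduct.induction_on with
  | zero => simp
  | tmul z y =>
    induction z using TensorProduct.induction_on with
    | zero => simp
    | tmul q s => simp [TensorProduct.smul_tmul', resEquiv_tmul]
    | add a b ha hb => simp only [TensorProduct.add_tmul, smul_add, map_add, ha, hb]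
  | add a b ha hb => simp only [smul_add, map_add, ha, hb]

theorem isNormic_postcomp {R R' : Type u} [CommRing R] [CommRing R'] [Algebra R R']
    {M' : Type u} [AddCommGroup M'] [Module R M'] [Module R' M'] [IsScalarTower R R' M']
    {N : Type u} [AddCommGroup N] [Module R N] {E : Type u} [AddCommGroup E] [Module R E]
    {ν : M' →ₚₗ[R] N} (hν : IsNormic R' ν) (φ : N →ₗ[R] E) : IsNormic R' (PolLaw.postcomp φ ν) := by
  intro P _ _ x m
  show φ.lTensor P (ν.toFun' P (actEnd M' P x m)) = Algebra.norm P x • φ.lTensor P (ν.toFun' P m)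
  rw [hν, lTensor_smul_left]

variable {R R' Q Q' : Type u} [CommRing R] [CommRing R'] [Algebra R R']
    [CommRing Q] [Algebra R Q] [CommRing Q'] [Algebra R Q'] [Algebra Q Q'] [Algebra R' Q']
    [IsScalarTower R Q Q'] [IsScalarTower R R' Q'] [Algebra.IsPushout R R' Q Q']
    [Module.Free R R'] [Module.Finite R R']

section normic

variable {M' : Type u} [AddCommGroup M'] [Module R M'] [Module R' M'] [IsScalarTower R R' M']
    {M'' : Type u} [AddCommGroup M''] [Module R M''] [Module R' M''] [Module Q M''] [Module Q' M'']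
    [IsScalarTower R R' M''] [IsScalarTower R Q M''] [IsScalarTower R' Q' M''] [IsScalarTower Q Q' M'']

theorem exists_baseChange (f : M' →ₗ[R'] M'') (hf : IsBaseChange Q' f)
    {N : Type u} [AddCommGroup N] [Module R N] (ν : M' →ₚₗ[R] N) (hν : PolLaw.IsUnivNormic R' ν)
    {N'' : Type u} [AddCommGroup N''] [Module R N''] [Module Q N''] [IsScalarTower R Q N'']
    (ν'' : M'' →ₚₗ[Q] N'') (hν'' : PolLaw.IsUnivNormic Q' ν'') :
    ∃ u : N →ₗ[R] N'',
      (∀ (P : Type u) [CommRing P] [Algebra R P] [Algebra Q P] [IsScalarTower R Q P] (m : P ⊗[R] M'),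
          ν''.toFun' P (PolLaw.bcAlong (f.restrictScalars R) P m) = PolLaw.bcAlong u P (ν.toFun' P m)) ∧
      IsBaseChange Q u := by
  set fR := f.restrictScalars R with hfR
  have hfQ : IsBaseChange Q fR := isBaseChange_restrictScalars hf
  -- the law over `R`
  let μ : M' →ₚₗ[R] N'' := PolLaw.precomp (resLaw ν'') fR
  have hμ : IsNormic R' μ := by
    intro P _ _ x m
    show resEquiv Q P N'' (ν''.toFun' _ ((resEquiv Q P M'').symm (fR.lTensor P (actEnd M' P x m)))) =
      Algebra.norm P x • resEquiv Q P N'' (ν''.toFun' _ ((resEquiv Q P M'').symm (fR.lTensor P m)))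
    rw [resEquiv_symm_lTensor, rTensor_actEnd, ← rTensor_algHom_apply, hfR, bcAlong_actEnd (Q' := Q'), hν''.1,
      norm_bcAlong, norm_includeRight, resEquiv_includeRight_smul, resEquiv_symm_lTensor]
  obtain ⟨u, hu, -⟩ := hν.2 N'' μ hμ
  have hprop : ∀ (P : Type u) [CommRing P] [Algebra R P] [Algebra Q P] [IsScalarTower R Q P]
      (m : P ⊗[R] M'), ν''.toFun' P (bcAlong fR P m) = bcAlong u P (ν.toFun' P m) := by
    intro P _ _ _ _ m
    rw [bcAlong_eq_id fR, ← bcAlong_resLaw, bcAlong_eq_id u]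
    exact congrArg _ (law_congr hu P m).symm
  refine ⟨u, hprop, ?_⟩
  -- the inverse
  let lam : M'' →ₚₗ[Q] Q ⊗[R] N := PolLaw.precomp (bcPol Q ν) hfQ.equiv.symm.toLinearMap
  have hlam : ∀ (P : Type u) [CommRing P] [Algebra R P] [Algebra Q P] [IsScalarTower R Q P]
      (y : P ⊗[R] M'), lam.toFun' P (bcAlong fR P y) =
        bcAlong (TensorProduct.mk R Q N 1) P (ν.toFun' P y) := by
    intro P _ _ _ _ y
    show (bcPol Q ν).toFun' P (hfQ.equiv.symm.toLinearMap.lTensor P (bcAlong fR P y)) = _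
    rw [lTensor_bcAlong, show (hfQ.equiv.symm.toLinearMap.restrictScalars R) ∘ₗ fR = TensorProduct.mk R Q M' 1
      from LinearMap.ext fun z => hfQ.equiv_symm_apply z, bcPol_bcAlong]
  have hlamN : IsNormic Q' lam := by
    intro P _ _ x m
    letI : Algebra R P := Algebra.compHom P (algebraMap R Q)
    haveI : IsScalarTower R Q P := IsScalarTower.of_algebraMap_eq fun _ => rfl
    obtain ⟨x0, rfl⟩ := (bcAlong_bijective (P := P)
      (isBaseChange_iota (R := R) (R' := R') (Q := Q) (Q' := Q'))).2 x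
    obtain ⟨m0, rfl⟩ := (bcAlong_bijective (P := P) hfQ).2 m
    rw [norm_bcAlong, hfR, ← bcAlong_actEnd, ← hfR, hlam, hlam, hν.1, bcAlong_smul]
  obtain ⟨v, hv, -⟩ := hν''.2 _ lam hlamN
  have hv' : ∀ (P : Type u) [CommRing P] [Algebra Q P] (y : P ⊗[Q] M''),
      v.lTensor P (ν''.toFun' P y) = lam.toFun' P y := fun P _ _ y => law_congr hv P y
  have hvu : v.restrictScalars R ∘ₗ u = TensorProduct.mk R Q N 1 := by
    refine (hν.2 _ _ (isNormic_postcomp hν.1 (TensorProduct.mk R Q N 1))).unique ?_ rfl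
    refine ext_ring fun P _ _ z => ?_
    show (v.restrictScalars R ∘ₗ u).lTensor P (ν.toFun' P z) =
      (TensorProduct.mk R Q N 1).lTensor P (ν.toFun' P z)
    apply (resEquiv Q P (Q ⊗[R] N)).symm.injective
    rw [resEquiv_symm_lTensor, resEquiv_symm_lTensor, ← lTensor_bcAlong, PolynomialLaw.isCompat_apply',
      ← hprop, hv', hlam]
  have hLv : u.liftBaseChange Q ∘ₗ v = LinearMap.id := by
    refine (hν''.2 _ _ (isNormic_postcomp hν''.1 LinearMap.id)).unique ?_ rfl
    refine ext_ring fun P _ _ y => ?_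
    letI : Algebra R P := Algebra.compHom P (algebraMap R Q)
    haveI : IsScalarTower R Q P := IsScalarTower.of_algebraMap_eq fun _ => rfl
    obtain ⟨y0, rfl⟩ := (bcAlong_bijective (P := P) hfQ).2 y
    show (u.liftBaseChange Q ∘ₗ v).lTensor P (ν''.toFun' P _) = LinearMap.id.lTensor P (ν''.toFun' P _)
    rw [LinearMap.lTensor_comp, LinearMap.comp_apply, hv', hlam, lTensor_bcAlong, LinearMap.lTensor_id,
      LinearMap.id_apply, hprop]
    congr 2
    ext z
    simp
  have hvL : v ∘ₗ u.liftBaseChange Q = LinearMap.id := by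
    ext z
    simpa using LinearMap.congr_fun hvu z
  exact IsBaseChange.of_equiv (LinearEquiv.ofLinearMap (u.liftBaseChange Q) v hLv hvL) fun x => by simp

end normic

theorem normMap_baseChange [Module.Free Q Q'] [Module.Finite Q Q']
    (d : ℕ) (hd : Module.finrank R R' = d) (hd' : Module.finrank Q Q' = d)
    {C : Type u} [CommRing C] [Algebra R C] (γ : PolLaw.MulLaw R R' C d) (hγ : PolLaw.IsGammaD γ)
    (π : C →ₐ[R] R) (hπ : PolLaw.MulLaw.postcomp π γ = PolLaw.normLaw R R' d hd)
    {C' : Type u} [CommRing C'] [Algebra R C'] [Algebra Q C'] [IsScalarTower R Q C']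
    (γ' : PolLaw.MulLaw Q Q' C' d)
    (π' : C' →ₐ[Q] Q) (hπ' : PolLaw.MulLaw.postcomp π' γ' = PolLaw.normLaw Q Q' d hd')
    (θ : C →ₐ[R] C')
    (hθ : ∀ (P : Type u) [CommRing P] [Algebra R P] [Algebra Q P] [IsScalarTower R Q P] (z : P ⊗[R] R'),
      γ'.law.toFun' P (PolLaw.bcAlong (IsScalarTower.toAlgHom R R' Q').toLinearMap P z) =
        PolLaw.bcAlong θ.toLinearMap P (γ.law.toFun' P z)) :
    (π'.restrictScalars R).comp θ = (Algebra.ofId R Q).comp π := by
  obtain ⟨g, -, hg⟩ := hγ Q (PolLaw.MulLaw.postcomp ((Algebra.ofId R Q).comp π) γ)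
  refine (hg _ ?_).trans (hg _ rfl).symm
  refine ext_ring fun P _ _ z => ?_
  show ((π'.restrictScalars R).comp θ).toLinearMap.lTensor P (γ.law.toFun' P z) =
    ((Algebra.ofId R Q).comp π).toLinearMap.lTensor P (γ.law.toFun' P z)
  apply (resEquiv Q P Q).symm.injective
  rw [resEquiv_symm_lTensor, resEquiv_symm_lTensor, PolynomialLaw.isCompat_apply']
  set w := (Algebra.TensorProduct.includeRight : P →ₐ[R] Q ⊗[R] P).toLinearMap.rTensor R' z
  have h1 : ((π'.restrictScalars R).comp θ).toLinearMap = π'.toLinearMap.restrictScalars R ∘ₗ θ.toLinearMap :=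
    LinearMap.ext fun _ => rfl
  have h2 : ((Algebra.ofId R Q).comp π).toLinearMap = (Algebra.linearMap R Q) ∘ₗ π.toLinearMap :=
    LinearMap.ext fun _ => rfl
  have e1 := law_congr (congrArg PolLaw.MulLaw.law hπ') (Q ⊗[R] P)
    (bcAlong (Q := Q) (iota R R' Q') (Q ⊗[R] P) w)
  have e2 := law_congr (congrArg PolLaw.MulLaw.law hπ) (Q ⊗[R] P) w
  rw [normLaw_apply] at e1 e2
  change π'.toLinearMap.lTensor _ (γ'.law.toFun' _ _) = _ at e1
  change π.toLinearMap.lTensor _ (γ.law.toFun' _ _) = _ at e2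
  rw [h1, h2, ← lTensor_bcAlong, ← hθ, e1, ← bcAlong_lTensor, e2, bcAlong_tmul, norm_bcAlong]
  simp

end Groth.Agent.H98PolLaw
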